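import Mathlib
import Groth.Agent.Lib.Helper73.DimFT.DimFun

/-!
# Height plus a dimension function is locally constant on a Noetherian ring with domain local
rings (helper73)
-/

set_option autoImplicit false
universe u

open Order

namespace Groth.Agent.Lib.Helper73

/-- A strictly antitone natural valued function bounds the length of chains. -/
lemma LTSeries.apply_last_add_length_le {α : Type*} [Preorder α] (p : LTSeries α) (f : α → ℕ)
    (hf : ∀ a b : α, a < b → f b < f a) : f p.last + p.length ≤ f p.head := by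
  have key : ∀ (n : ℕ) (hn : n < p.length + 1), f (p ⟨n, hn⟩) + n ≤ f p.head := by
    intro n
    induction n with
    | zero => intro hn; exact le_of_eq rfl
    | succ n ih =>
      intro hn
      have h1 := ih (by omega)
      have h2 : p ⟨n, by omega⟩ < p ⟨n + 1, hn⟩ := p.strictMono (by simp [Fin.lt_def])
      have := hf _ _ h2
      omega
  exact key p.length (by omega)

section

variable {P : Type u} [CommRing P] {δ : PrimeSpectrum P → ℕ} (hδ : IsDimFun δ)
include hδ

lemma IsDimFun.lt_of_lt_primeSpectrum {x y : PrimeSpectrum P} (h : x < y) : δ y < δ x :=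
  hδ.lt_of_specializes ((PrimeSpectrum.le_iff_specializes x y).mp h.le) (ne_of_lt h)

lemma IsDimFun.le_of_le_primeSpectrum {x y : PrimeSpectrum P} (h : x ≤ y) : δ y ≤ δ x :=
  hδ.le_of_specializes ((PrimeSpectrum.le_iff_specializes x y).mp h)

/-- Between two comparable primes there is a chain of primes of length the difference of the
values of a dimension function. -/
lemma IsDimFun.exists_ltSeries_primeSpectrum {x y : PrimeSpectrum P} (hxy : x ≤ y) :
    ∃ p : LTSeries (PrimeSpectrum P), p.head = x ∧ p.last = y ∧ p.length + δ y = δ x := by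
  induction hn : δ x - δ y using Nat.strong_induction_on generalizing x y with
  | _ n ih =>
    by_cases e : x = y
    · subst e
      exact ⟨RelSeries.singleton _ x, rfl, rfl, by simp⟩
    · have hlt : x < y := lt_of_le_of_ne hxy e
      by_cases himm : ∀ z, x ≤ z → z ≤ y → z = x ∨ z = y
      · have h1 := hδ.eq_add_one_of_immediate ((PrimeSpectrum.le_iff_specializes x y).mp hxy) e
          (fun z hxz hzy => himm z ((PrimeSpectrum.le_iff_specializes x z).mpr hxz)
            ((PrimeSpectrum.le_iff_specializes z y).mpr hzy))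
        refine ⟨(RelSeries.singleton _ x).snoc y (lt_of_le_of_ne hxy e), ?_, ?_, ?_⟩
        · exact (RelSeries.head_snoc _ _ _).trans rfl
        · exact RelSeries.last_snoc _ _ _
        · show (0 + 1) + δ y = δ x
          omega
      · push Not at himm
        obtain ⟨z, hxz, hzy, hzx, hzy'⟩ := himm
        have hlt1 := hδ.lt_of_lt_primeSpectrum (lt_of_le_of_ne hxz (Ne.symm hzx))
        have hlt2 := hδ.lt_of_lt_primeSpectrum (lt_of_le_of_ne hzy hzy')
        obtain ⟨p, hp1, hp2, hp3⟩ := ih (δ x - δ z) (by omega) hxz rfl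
        obtain ⟨q, hq1, hq2, hq3⟩ := ih (δ z - δ y) (by omega) hzy rfl
        refine ⟨p.smash q (hp2.trans hq1.symm), ?_, ?_, ?_⟩
        · simp [hp1]
        · simp [hq2]
        · simp; omega

/-- If `ξ` lies below every prime contained in `q`, then `ht q + δ q = δ ξ`. -/
lemma IsDimFun.height_add_eq_of_forall_le {ξ q : PrimeSpectrum P} (hξq : ξ ≤ q)
    (hmin : ∀ η : PrimeSpectrum P, η ≤ q → ξ ≤ η) :
    Order.height q + (δ q : ℕ∞) = (δ ξ : ℕ∞) := by
  apply le_antisymm
  · have h1 : Order.height q ≤ ((δ ξ - δ q : ℕ) : ℕ∞) := by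
      refine Order.height_le fun p hp => ?_
      have h2 := LTSeries.apply_last_add_length_le p δ
        (fun a b hab => hδ.lt_of_lt_primeSpectrum hab)
      rw [hp] at h2
      have h3 : p.head ≤ q := hp ▸ p.head_le_last
      have h4 := hδ.le_of_le_primeSpectrum (hmin p.head h3)
      exact_mod_cast (by omega : p.length ≤ δ ξ - δ q)
    have h5 := hδ.le_of_le_primeSpectrum hξq
    calc Order.height q + (δ q : ℕ∞) ≤ ((δ ξ - δ q : ℕ) : ℕ∞) + (δ q : ℕ∞) := by gcongr
      _ = (δ ξ : ℕ∞) := by exact_mod_cast (by omega : δ ξ - δ q + δ q = δ ξ)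
  · obtain ⟨p, hp1, hp2, hp3⟩ := hδ.exists_ltSeries_primeSpectrum hξq
    have h1 : (p.length : ℕ∞) ≤ Order.height p.last := Order.length_le_height_last
    rw [hp2] at h1
    calc (δ ξ : ℕ∞) = (p.length : ℕ∞) + δ q := by rw [← hp3]; push_cast; rfl
      _ ≤ Order.height q + δ q := by gcongr

end

section Minimal

variable {P : Type u} [CommRing P]

/-- If the localization at `q` is a domain, every minimal prime below `q` is the kernel of the
localization map. -/
lemma minimalPrime_eq_ker_of_isDomain (q : Ideal P) [q.IsPrime]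
    [IsDomain (Localization.AtPrime q)] (m : Ideal P) (hm : m ∈ minimalPrimes P) (hmq : m ≤ q) :
    m = RingHom.ker (algebraMap P (Localization.AtPrime q)) := by
  haveI hmp : m.IsPrime := hm.1.1
  have hdisj : Disjoint (q.primeCompl : Set P) (m : Set P) := by
    rw [Set.disjoint_left]
    intro a ha ham
    exact ha (hmq ham)
  have hcm : (m.map (algebraMap P (Localization.AtPrime q))).comap
      (algebraMap P (Localization.AtPrime q)) = m :=
    IsLocalization.comap_map_of_isPrime_disjoint q.primeCompl (Localization.AtPrime q) hmp hdisj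
  have hker : RingHom.ker (algebraMap P (Localization.AtPrime q)) ≤ m := by
    rw [← hcm]
    intro a ha
    rw [Ideal.mem_comap, RingHom.mem_ker.mp ha]
    exact Ideal.zero_mem _
  haveI : (RingHom.ker (algebraMap P (Localization.AtPrime q))).IsPrime :=
    RingHom.ker_isPrime _
  exact le_antisymm (hm.2 ⟨inferInstance, bot_le⟩ hker) hker

end Minimal

section Main

variable {P : Type u} [CommRing P] [IsNoetherianRing P]
  (hdom : ∀ p : PrimeSpectrum P, IsDomain (Localization.AtPrime p.asIdeal))
  {δ : PrimeSpectrum P → ℕ} (hδ : IsDimFun δ)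
include hdom hδ

/-- On a Noetherian ring all of whose local rings are domains, `ht + δ` is locally constant for
any dimension function `δ`. -/
theorem exists_open_height_add_const (q₀ : PrimeSpectrum P) :
    ∃ W : Set (PrimeSpectrum P), IsOpen W ∧ q₀ ∈ W ∧ ∃ c : ℕ, ∀ q ∈ W,
      (q.asIdeal.height : ℕ∞) + (δ q : ℕ∞) = (c : ℕ∞) := by
  obtain ⟨ξ, hξ, hξq₀⟩ := Ideal.exists_minimalPrimes_le (bot_le : (⊥ : Ideal P) ≤ q₀.asIdeal)
  have hξ' : ξ ∈ minimalPrimes P := hξ
  haveI hξp : ξ.IsPrime := hξ.1.1
  have hfin : (minimalPrimes P \ {ξ}).Finite :=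
    (minimalPrimes.finite_of_isNoetherianRing P).subset Set.diff_subset
  let C : Set (PrimeSpectrum P) := ⋃ m ∈ (minimalPrimes P \ {ξ}), PrimeSpectrum.zeroLocus (m : Set P)
  have hC : IsClosed C :=
    hfin.isClosed_biUnion (fun m _ => PrimeSpectrum.isClosed_zeroLocus _)
  have huniq : ∀ (q : PrimeSpectrum P) (m m' : Ideal P), m ∈ minimalPrimes P →
      m' ∈ minimalPrimes P → m ≤ q.asIdeal → m' ≤ q.asIdeal → m = m' := by
    intro q m m' hm hm' hmq hm'q
    haveI := hdom q
    rw [minimalPrime_eq_ker_of_isDomain q.asIdeal m hm hmq,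
      minimalPrime_eq_ker_of_isDomain q.asIdeal m' hm' hm'q]
  have hW : ∀ q : PrimeSpectrum P, q ∉ C → ξ ≤ q.asIdeal := by
    intro q hq
    obtain ⟨m, hm, hmq⟩ := Ideal.exists_minimalPrimes_le (bot_le : (⊥ : Ideal P) ≤ q.asIdeal)
    by_cases hmξ : m = ξ
    · rw [← hmξ]; exact hmq
    · exfalso
      apply hq
      simp only [C, Set.mem_iUnion]
      exact ⟨m, ⟨hm, hmξ⟩, hmq⟩
  refine ⟨Cᶜ, hC.isOpen_compl, ?_, δ ⟨ξ, hξp⟩, ?_⟩
  · intro hq₀
    simp only [C, Set.mem_iUnion] at hq₀
    obtain ⟨m, ⟨hm, hmξ⟩, hmq⟩ := hq₀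
    exact hmξ (huniq q₀ m ξ hm hξ' hmq hξq₀)
  · intro q hq
    have hξq : ξ ≤ q.asIdeal := hW q hq
    rw [PrimeSpectrum.height_eq_orderHeight]
    refine hδ.height_add_eq_of_forall_le (ξ := ⟨ξ, hξp⟩) hξq ?_
    intro η hηq
    obtain ⟨m, hm, hmη⟩ := Ideal.exists_minimalPrimes_le (bot_le : (⊥ : Ideal P) ≤ η.asIdeal)
    have : m = ξ := huniq q m ξ hm hξ' (hmη.trans hηq) hξq
    show ξ ≤ η.asIdeal
    rw [← this]
    exact hmη

end Main

end Groth.Agent.Lib.Helper73
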