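import Mathlib
import Groth.Agent.Lib.Helper73.DimFormula.JacobsonLocal

/-!
# Local dimension of closed subsets of a locally Noetherian scheme with a dimension function
(helper73)
-/

set_option autoImplicit false
universe u

open AlgebraicGeometry CategoryTheory TopologicalSpace Opposite Order

namespace Groth.Agent.Lib.Helper73

/-- EGA IV 10.6.x for a general dimension function: the local dimension at `x` of a closed subset
`Y` is `dim cl{x}` plus the dimension of the space of generizations of `x` in `Y`. -/
theorem localDim_closed_eq_of_isDimFun (X : Scheme.{u}) [IsLocallyNoetherian X] {δ : X → ℕ}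
    (hδ : IsDimFun δ) (Y : Set X) (hY : IsClosed Y) (x : X) (hx : x ∈ Y) :
    FlatMor.localDim ↥Y ⟨x, hx⟩ =
      topologicalKrullDim ↥(closure ({x} : Set X)) +
        topologicalKrullDim ↥{t : X | t ∈ Y ∧ t ⤳ x} := by
  have hT : IsDimFun (fun t : ↥Y => δ t.1) := by
    have e : Set.univ ∩ Y = Y := Set.univ_inter Y
    have := hδ.restrict isOpen_univ hY
    rw [e] at this
    exact this
  have hQS : QuasiSober ↥Y := hY.isClosedEmbedding_subtypeVal.quasiSober
  obtain ⟨V, hV, hxV, hN⟩ := exists_open_noetherianSpace_of_isLocallyNoetherian X x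
  let VT : Set ↥Y := Subtype.val ⁻¹' V
  have hVT : IsOpen VT := hV.preimage continuous_subtype_val
  have hNT : NoetherianSpace ↥VT := by
    let i : ↥VT → ↥V := fun t => ⟨t.1.1, t.2⟩
    have hi : Topology.IsInducing i := by
      have h1 : Topology.IsInducing (fun t : ↥VT => (t.1.1 : X)) :=
        Topology.IsInducing.subtypeVal.comp Topology.IsInducing.subtypeVal
      have h2 : (fun t : ↥VT => (t.1.1 : X)) = Subtype.val ∘ i := rfl
      rw [h2] at h1
      have hic : Continuous i :=
        (continuous_subtype_val.comp continuous_subtype_val).subtype_mk (fun t => t.2)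
      exact Topology.IsInducing.of_comp hic continuous_subtype_val h1
    exact hi.noetherianSpace
  obtain ⟨W, hW, hxW, hLN⟩ :=
    exists_open_forall_exists_generic_of_nhd (⟨x, hx⟩ : ↥Y) VT hVT hxV
  have hloc : FlatMor.localDim ↥Y ⟨x, hx⟩ =
      ((@Order.coheight ↥Y (specializationPreorder ↥Y) ⟨x, hx⟩ + δ x : ℕ∞) : WithBot ℕ∞) :=
    hT.iInf_topologicalKrullDim_eq ⟨x, hx⟩ W hW hxW hLN
  rw [hloc, hδ.topologicalKrullDim_closure_singleton x,
    topologicalKrullDim_generizations_subtype_eq_coheight Y hY x hx]
  push_cast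
  rw [add_comm]

end Groth.Agent.Lib.Helper73
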