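import Mathlib
import Groth.Agent.S2677
import Groth.Agent.Lib.Lead.QCohAff5
import Groth.Agent.Lib.Helper64.CohAffine

/-!
# Upper semicontinuity of the projective dimension of the stalks of a coherent module (helper73)
-/

set_option autoImplicit false
set_option linter.style.haveILetI false
universe u
open CategoryTheory AlgebraicGeometry TopologicalSpace Topology
open Groth.Agent.Lib.Lead.QCohAff

namespace Groth.Agent.Lib.Helper73

attribute [local instance] RingHomInvPair.of_ringEquiv in
/-- Projective dimension is invariant under an additive equivalence semilinear over a ring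
equivalence. -/
theorem projectiveDimension_eq_of_ringEquiv_of_map_smul {B B' : Type u} [CommRing B] [CommRing B']
    (e : B ≃+* B') {N N' : Type u} [AddCommGroup N] [Module B N] [AddCommGroup N'] [Module B' N']
    (τ : N ≃+ N') (h : ∀ (b : B) (n : N), τ (b • n) = e b • τ n) :
    projectiveDimension (ModuleCat.of B N) = projectiveDimension (ModuleCat.of B' N') := by
  let τσ : N ≃ₛₗ[RingHomClass.toRingHom e] N' :=
    { toFun := τ
      map_add' := τ.map_add
      map_smul' := fun b n => h b n
      invFun := τ.symm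
      left_inv := τ.left_inv
      right_inv := τ.right_inv }
  exact ModuleCat.projectiveDimension_eq_of_semiLinearEquiv e τσ

/-- The projective dimension does not depend on the chosen model of the localization at `p`. -/
theorem projectiveDimension_eq_of_isLocalizedModule {A : Type u} [CommRing A] (p : Ideal A)
    [p.IsPrime] (B B' : Type u) [CommRing B] [CommRing B'] [Algebra A B] [Algebra A B']
    [IsLocalization.AtPrime B p] [IsLocalization.AtPrime B' p]
    {M : Type u} [AddCommGroup M] [Module A M]
    {N N' : Type u} [AddCommGroup N] [Module A N] [Module B N] [IsScalarTower A B N]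
    [AddCommGroup N'] [Module A N'] [Module B' N'] [IsScalarTower A B' N']
    (f : M →ₗ[A] N) (f' : M →ₗ[A] N') [IsLocalizedModule p.primeCompl f]
    [IsLocalizedModule p.primeCompl f'] :
    projectiveDimension (ModuleCat.of B N) = projectiveDimension (ModuleCat.of B' N') := by
  let σ : B ≃ₐ[A] B' := IsLocalization.algEquiv p.primeCompl B B'
  letI : Algebra B B' := (σ : B →+* B').toAlgebra
  have halg : ∀ b : B, algebraMap B B' b = σ b := fun _ => rfl
  haveI : IsScalarTower A B B' := IsScalarTower.of_algebraMap_eq (fun a => by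
    rw [halg]; exact (σ.commutes a).symm)
  letI : Module B N' := Module.compHom N' (algebraMap B B')
  haveI : IsScalarTower B B' N' := IsScalarTower.of_algebraMap_smul (fun r x => rfl)
  haveI : IsScalarTower A B N' := IsScalarTower.of_algebraMap_smul (fun a x => by
    show algebraMap B B' (algebraMap A B a) • x = a • x
    rw [← IsScalarTower.algebraMap_apply, algebraMap_smul])
  let τ : N ≃ₗ[A] N' := IsLocalizedModule.linearEquiv p.primeCompl f f'
  let τB : N ≃ₗ[B] N' := LinearEquiv.extendScalarsOfIsLocalization p.primeCompl B τ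
  refine projectiveDimension_eq_of_ringEquiv_of_map_smul σ.toRingEquiv τB.toAddEquiv ?_
  intro b n
  show τB (b • n) = σ b • τB n
  rw [τB.map_smul]
  rfl

noncomputable section Scheme

variable {X : Scheme.{u}} (F : X.Modules) [F.IsQuasicoherent] {U : X.Opens}

theorem projectiveDimension_stalk_eq_chart (hU : IsAffineOpen U) (x : X) (hx : x ∈ U) :
    projectiveDimension (ModuleCat.of (X.presheaf.stalk x) (F.presheaf.stalk x)) =
      projectiveDimension (ModuleCat.of
        (Localization.AtPrime (hU.primeIdealOf ⟨x, hx⟩).asIdeal)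
        (LocalizedModule (hU.primeIdealOf ⟨x, hx⟩).asIdeal.primeCompl Γ(F, U))) := by
  letI : Algebra Γ(X, U) (X.presheaf.stalk x) :=
    TopCat.Presheaf.algebra_section_stalk X.presheaf (U := U) ⟨x, hx⟩
  haveI : IsLocalization.AtPrime (X.presheaf.stalk x) (hU.primeIdealOf ⟨x, hx⟩).asIdeal :=
    hU.isLocalization_stalk ⟨x, hx⟩
  letI : Module (X.presheaf.stalk x) (StalkOver F U x hx) :=
    inferInstanceAs (Module (X.presheaf.stalk x) (F.presheaf.stalk x))
  haveI : IsScalarTower Γ(X, U) (X.presheaf.stalk x) (StalkOver F U x hx) :=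
    IsScalarTower.of_algebraMap_smul (fun r t => rfl)
  haveI := isLocalizedModule_germL F hU x hx
  have h := projectiveDimension_eq_of_isLocalizedModule (hU.primeIdealOf ⟨x, hx⟩).asIdeal
    (X.presheaf.stalk x) (Localization.AtPrime (hU.primeIdealOf ⟨x, hx⟩).asIdeal)
    (N := StalkOver F U x hx) (germL F U x hx)
    (LocalizedModule.mkLinearMap (hU.primeIdealOf ⟨x, hx⟩).asIdeal.primeCompl Γ(F, U))
  exact h

theorem isOpen_projectiveDimension_stalk_le [IsLocallyNoetherian X]
    (hft : SheafOfModules.IsFiniteType (R := X.ringCatSheaf) F) (k : ℕ) :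
    IsOpen {x : X | projectiveDimension
      (ModuleCat.of (X.presheaf.stalk x) (F.presheaf.stalk x)) ≤ ((k : ℕ) : WithBot ℕ∞)} := by
  rw [isOpen_iff_forall_mem_open]
  intro x hx
  obtain ⟨U, hU, hxU, -⟩ :=
    exists_isAffineOpen_mem_and_subset (X := X) (x := x) (U := ⊤) trivial
  haveI : IsNoetherianRing Γ(X, U) := IsLocallyNoetherian.component_noetherian ⟨U, hU⟩
  haveI : Module.Finite Γ(X, U) Γ(F, U) :=
    Groth.Agent.Lib.Helper64.CohAffine.finite_sections F hft hU
  have hV := Groth.Agent.S2677.result Γ(X, U) Γ(F, U) k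
  refine ⟨hU.fromSpec '' {p : PrimeSpectrum Γ(X, U) | projectiveDimension (ModuleCat.of
      (Localization.AtPrime p.asIdeal) (LocalizedModule p.asIdeal.primeCompl Γ(F, U))) ≤ k},
    ?_, hU.fromSpec.isOpenEmbedding.isOpenMap _ hV, ?_⟩
  · rintro _ ⟨q, hq, rfl⟩
    have hqU : hU.fromSpec q ∈ U := fromSpec_mem hU q
    have h1 := projectiveDimension_stalk_eq_chart F hU (hU.fromSpec q) hqU
    rw [Set.mem_setOf_eq, h1]
    have h2 : hU.primeIdealOf ⟨hU.fromSpec q, hqU⟩ = q := primeIdealOf_fromSpec hU q hqU
    rw [h2]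
    exact hq
  · refine ⟨hU.primeIdealOf ⟨x, hxU⟩, ?_, hU.fromSpec_primeIdealOf ⟨x, hxU⟩⟩
    show projectiveDimension (ModuleCat.of
      (Localization.AtPrime (hU.primeIdealOf ⟨x, hxU⟩).asIdeal)
      (LocalizedModule (hU.primeIdealOf ⟨x, hxU⟩).asIdeal.primeCompl Γ(F, U))) ≤ k
    rw [← projectiveDimension_stalk_eq_chart F hU x hxU]
    exact hx

end Scheme

end Groth.Agent.Lib.Helper73
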