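import Mathlib
import Groth.Agent.Lib.Helper73.RectDepth.HeightAddDimFun
import Groth.Agent.Lib.Helper73.SkMod.Transfer
import Groth.Agent.Lib.Helper77.RegularAB
import Groth.Agent.S2677

/-!
# Rectified depth on a quotient of a regular ring: lower semicontinuity, ring level (helper73)
-/

set_option autoImplicit false
set_option linter.style.haveILetI false
universe u

open CategoryTheory LocCoh

namespace Groth.Agent.Lib.Helper73

noncomputable section

section Bridge

variable {P B M : Type u} [CommRing P] [IsNoetherianRing P] [CommRing B] [Algebra P B]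
  (hρ : Function.Surjective (algebraMap P B)) [AddCommGroup M] [Module B M] [Module P M]
  [IsScalarTower P B M] [Module.Finite B M] (q : Ideal B) [q.IsPrime]

include hρ in
theorem finite_of_surjective_tower : Module.Finite P M := by
  haveI : Module.Finite P B := Module.Finite.of_surjective (Algebra.linearMap P B) hρ
  exact Module.Finite.trans B M

include hρ in
/-- The localizations of `M` at `q` and at the preimage of `q` are identified, semilinearly over
a surjection of local rings. -/
theorem exists_localization_bridge :
    ∃ (ψ : Localization.AtPrime (q.comap (algebraMap P B)) →+* Localization.AtPrime q)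
      (τ : LocalizedModule (q.comap (algebraMap P B)).primeCompl M ≃+
        LocalizedModule q.primeCompl M),
      Function.Surjective ψ ∧ ∀ (r : Localization.AtPrime (q.comap (algebraMap P B)))
        (l : LocalizedModule (q.comap (algebraMap P B)).primeCompl M), τ (r • l) = ψ r • τ l := by
  have hT : Submonoid.map (algebraMap P B) (q.comap (algebraMap P B)).primeCompl = q.primeCompl := by
    ext b
    constructor
    · rintro ⟨c, hc, rfl⟩
      exact hc
    · intro hb
      obtain ⟨c, rfl⟩ := hρ b
      exact ⟨c, hb, rfl⟩
  let ψ : Localization.AtPrime (q.comap (algebraMap P B)) →+* Localization.AtPrime q :=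
    IsLocalization.map (Localization.AtPrime q) (algebraMap P B)
      (hT.symm ▸ Submonoid.le_comap_map (q.comap (algebraMap P B)).primeCompl)
  have hψs : Function.Surjective ψ := by
    haveI : IsLocalization (Submonoid.map (algebraMap P B) (q.comap (algebraMap P B)).primeCompl)
        (Localization.AtPrime q) := by
      rw [hT]; infer_instance
    exact IsLocalization.map_surjective_of_surjective (q.comap (algebraMap P B)).primeCompl
      (Localization.AtPrime (q.comap (algebraMap P B))) (Localization.AtPrime q) hρ
  have hψa : ∀ c : P, ψ (algebraMap P (Localization.AtPrime (q.comap (algebraMap P B))) c) =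
      algebraMap B (Localization.AtPrime q) (algebraMap P B c) := fun c => IsLocalization.map_eq _ c
  -- the localization at `q` is a localization at the preimage over `P`
  have hS : Algebra.algebraMapSubmonoid B (q.comap (algebraMap P B)).primeCompl = q.primeCompl := hT
  haveI : IsLocalizedModule (Algebra.algebraMapSubmonoid B (q.comap (algebraMap P B)).primeCompl)
      (LocalizedModule.mkLinearMap q.primeCompl M) := by
    rw [hS]; infer_instance
  haveI := IsLocalizedModule.restrictScalars (q.comap (algebraMap P B)).primeCompl
    (LocalizedModule.mkLinearMap q.primeCompl M)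
  letI : Module (Localization.AtPrime (q.comap (algebraMap P B))) (LocalizedModule q.primeCompl M) :=
    Module.compHom _ ψ
  haveI : IsScalarTower P (Localization.AtPrime (q.comap (algebraMap P B)))
      (LocalizedModule q.primeCompl M) := IsScalarTower.of_algebraMap_smul (fun c x => by
    show ψ (algebraMap P _ c) • x = c • x
    rw [hψa, algebraMap_smul, algebraMap_smul])
  let τ : LocalizedModule (q.comap (algebraMap P B)).primeCompl M ≃ₗ[P]
      LocalizedModule q.primeCompl M :=
    IsLocalizedModule.linearEquiv (q.comap (algebraMap P B)).primeCompl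
      (LocalizedModule.mkLinearMap _ M)
      ((LocalizedModule.mkLinearMap q.primeCompl M).restrictScalars P)
  let τΛ : LocalizedModule (q.comap (algebraMap P B)).primeCompl M ≃ₗ[Localization.AtPrime
      (q.comap (algebraMap P B))] LocalizedModule q.primeCompl M :=
    LinearEquiv.extendScalarsOfIsLocalization (q.comap (algebraMap P B)).primeCompl
      (Localization.AtPrime (q.comap (algebraMap P B))) τ
  refine ⟨ψ, τΛ.toAddEquiv, hψs, ?_⟩
  intro r l
  show τΛ (r • l) = ψ r • τΛ l
  rw [τΛ.map_smul]
  rfl

include hρ in
/-- Auslander–Buchsbaum through a presentation by a regular ring. -/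
theorem exists_pd_add_depth_eq_height
    [IsRegularLocalRing (Localization.AtPrime (q.comap (algebraMap P B)))]
    [Nontrivial (LocalizedModule q.primeCompl M)] :
    ∃ e d : ℕ, projectiveDimension (ModuleCat.of (Localization.AtPrime (q.comap (algebraMap P B)))
        (LocalizedModule (q.comap (algebraMap P B)).primeCompl M)) = (e : WithBot ℕ∞) ∧
      depth (Localization.AtPrime q) (LocalizedModule q.primeCompl M) = (d : ℕ∞) ∧
      (q.comap (algebraMap P B)).height = ((e + d : ℕ) : ℕ∞) := by
  obtain ⟨ψ, τ, hψ, hτ⟩ := exists_localization_bridge (M := M) hρ q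
  haveI : Module.Finite P M := finite_of_surjective_tower (M := M) hρ
  haveI : Nontrivial (LocalizedModule (q.comap (algebraMap P B)).primeCompl M) :=
    τ.toEquiv.nontrivial
  haveI : IsNoetherianRing B := isNoetherianRing_of_surjective P B (algebraMap P B) hρ
  have hdep := depth_eq_of_semilinear ψ hψ τ hτ
  obtain ⟨e, he, hdim⟩ := Groth.Agent.Lib.Helper77.RegularAB.exists_pd_add_depth_eq_dim
    (Localization.AtPrime (q.comap (algebraMap P B)))
    (LocalizedModule (q.comap (algebraMap P B)).primeCompl M)
  rw [IsLocalization.AtPrime.ringKrullDim_eq_height (q.comap (algebraMap P B)), hdep] at hdim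
  have hdim' : ((q.comap (algebraMap P B)).height : ℕ∞) =
      (e : ℕ∞) + depth (Localization.AtPrime q) (LocalizedModule q.primeCompl M) :=
    WithBot.coe_injective hdim
  have hfin : (q.comap (algebraMap P B)).height ≠ ⊤ := Ideal.height_ne_top (Ideal.IsPrime.ne_top')
  have hd : depth (Localization.AtPrime q) (LocalizedModule q.primeCompl M) ≠ ⊤ := by
    intro h
    rw [h, add_top] at hdim'
    exact hfin hdim'
  obtain ⟨d, hd'⟩ := ENat.ne_top_iff_exists.mp hd
  refine ⟨e, d, he, hd'.symm, ?_⟩
  rw [hdim', ← hd']
  push_cast
  rfl

end Bridge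

section Main

variable {P B M : Type u} [CommRing P] [IsRegularRing P] [CommRing B] [Algebra P B]
  (hρ : Function.Surjective (algebraMap P B)) [AddCommGroup M] [Module B M] [Module P M]
  [IsScalarTower P B M] [Module.Finite B M]
  {δ : PrimeSpectrum P → ℕ} (hδ : IsDimFun δ)

/-- The rectified depth on `Spec B` with respect to the dimension function `δ` on `Spec P`. -/
def rectDepthRing (B M : Type u) [CommRing B] [AddCommGroup M] [Module B M] {P : Type u}
    [CommRing P] [Algebra P B] (δ : PrimeSpectrum P → ℕ) (q : PrimeSpectrum B) : ℕ∞ :=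
  depth (Localization.AtPrime q.asIdeal) (LocalizedModule q.asIdeal.primeCompl M) +
    (δ (PrimeSpectrum.comap (algebraMap P B) q) : ℕ∞)

include hρ hδ in
/-- Lower semicontinuity and constancy along specializations of the rectified depth. -/
theorem exists_open_rectDepthRing (q₀ : PrimeSpectrum B) :
    ∃ W : Set (PrimeSpectrum B), IsOpen W ∧ q₀ ∈ W ∧
      (∀ q ∈ W, rectDepthRing B M δ q₀ ≤ rectDepthRing B M δ q) ∧
      (∀ q ∈ W, q₀ ≤ q → rectDepthRing B M δ q = rectDepthRing B M δ q₀) := by
  haveI : IsNoetherianRing B := isNoetherianRing_of_surjective P B (algebraMap P B) hρ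
  have hsuppcl : IsClosed (Module.support B M) := by
    rw [Module.support_eq_zeroLocus]
    exact PrimeSpectrum.isClosed_zeroLocus _
  have htop : ∀ q : PrimeSpectrum B, q ∉ Module.support B M → rectDepthRing B M δ q = ⊤ := by
    intro q hq
    haveI : Subsingleton (LocalizedModule q.asIdeal.primeCompl M) :=
      Module.notMem_support_iff.mp hq
    unfold rectDepthRing
    have : depth (Localization.AtPrime q.asIdeal) (LocalizedModule q.asIdeal.primeCompl M) = ⊤ := by
      unfold LocCoh.depth LocCoh.idealDepth
      rw [if_pos (Subsingleton.elim _ _)]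
    rw [this, top_add]
  by_cases hq₀ : q₀ ∈ Module.support B M
  swap
  · refine ⟨(Module.support B M)ᶜ, hsuppcl.isOpen_compl, hq₀, ?_, ?_⟩
    · intro q hq
      rw [htop q hq]
      exact le_top
    · intro q hq _
      rw [htop q hq, htop q₀ hq₀]
  · -- the main case
    haveI : Module.Finite P M := finite_of_surjective_tower (M := M) hρ
    have hdom : ∀ p : PrimeSpectrum P, IsDomain (Localization.AtPrime p.asIdeal) := fun p =>
      Groth.Agent.Lib.Helper76.isDomain_of_isRegularLocalRing _
    have hnum : ∀ q : PrimeSpectrum B, q ∈ Module.support B M →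
        ∃ e d : ℕ, projectiveDimension (ModuleCat.of
          (Localization.AtPrime (PrimeSpectrum.comap (algebraMap P B) q).asIdeal)
          (LocalizedModule (PrimeSpectrum.comap (algebraMap P B) q).asIdeal.primeCompl M)) =
            (e : WithBot ℕ∞) ∧
          depth (Localization.AtPrime q.asIdeal) (LocalizedModule q.asIdeal.primeCompl M) = (d : ℕ∞) ∧
          (PrimeSpectrum.comap (algebraMap P B) q).asIdeal.height = ((e + d : ℕ) : ℕ∞) := by
      intro q hq
      haveI : Nontrivial (LocalizedModule q.asIdeal.primeCompl M) := Module.mem_support_iff.mp hq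
      exact exists_pd_add_depth_eq_height (M := M) hρ q.asIdeal
    obtain ⟨e₀, d₀, he₀, hd₀, hh₀⟩ := hnum q₀ hq₀
    obtain ⟨W₁, hW₁, hq₀W₁, c, hc⟩ := exists_open_height_add_const hdom hδ
      (PrimeSpectrum.comap (algebraMap P B) q₀)
    have hW₂ := Groth.Agent.S2677.result P M e₀
    let pdset : ℕ → Set (PrimeSpectrum P) := fun k => {p : PrimeSpectrum P |
      projectiveDimension (ModuleCat.of (Localization.AtPrime p.asIdeal)
        (LocalizedModule p.asIdeal.primeCompl M)) ≤ k}
    have hpdopen : ∀ k, IsOpen (pdset k) := fun k => Groth.Agent.S2677.result P M k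
    have hcont : Continuous (PrimeSpectrum.comap (algebraMap P B)) :=
      PrimeSpectrum.continuous_comap (algebraMap P B)
    refine ⟨PrimeSpectrum.comap (algebraMap P B) ⁻¹' (W₁ ∩ pdset e₀),
      (hW₁.inter (hpdopen e₀)).preimage hcont, ⟨hq₀W₁, ?_⟩, ?_, ?_⟩
    · show projectiveDimension _ ≤ _
      rw [he₀]
    · rintro q ⟨hqW₁, hqpd⟩
      by_cases hq : q ∈ Module.support B M
      swap
      · rw [htop q hq]; exact le_top
      obtain ⟨e, d, he, hd, hh⟩ := hnum q hq
      have hee : e ≤ e₀ := by
        have : projectiveDimension _ ≤ _ := hqpd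
        rw [he] at this
        exact_mod_cast this
      have h1 := hc _ hqW₁
      have h2 := hc _ hq₀W₁
      rw [hh] at h1
      rw [hh₀] at h2
      unfold rectDepthRing
      rw [hd, hd₀]
      have h1' : e + d + δ (PrimeSpectrum.comap (algebraMap P B) q) = c := by exact_mod_cast h1
      have h2' : e₀ + d₀ + δ (PrimeSpectrum.comap (algebraMap P B) q₀) = c := by exact_mod_cast h2
      exact_mod_cast (by omega : d₀ + δ (PrimeSpectrum.comap (algebraMap P B) q₀) ≤
        d + δ (PrimeSpectrum.comap (algebraMap P B) q))
    · rintro q ⟨hqW₁, hqpd⟩ hle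
      have hq : q ∈ Module.support B M := Module.mem_support_mono hle hq₀
      obtain ⟨e, d, he, hd, hh⟩ := hnum q hq
      have hee : e ≤ e₀ := by
        have : projectiveDimension _ ≤ _ := hqpd
        rw [he] at this
        exact_mod_cast this
      have hee' : e₀ ≤ e := by
        have hsp : PrimeSpectrum.comap (algebraMap P B) q₀ ⤳
            PrimeSpectrum.comap (algebraMap P B) q :=
          ((PrimeSpectrum.le_iff_specializes q₀ q).mp hle).map hcont
        have hmem : PrimeSpectrum.comap (algebraMap P B) q ∈ pdset e := by
          show projectiveDimension _ ≤ _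
          rw [he]
        have := hsp.mem_open (hpdopen e) hmem
        have h3 : projectiveDimension _ ≤ _ := this
        rw [he₀] at h3
        exact_mod_cast h3
      have h1 := hc _ hqW₁
      have h2 := hc _ hq₀W₁
      rw [hh] at h1
      rw [hh₀] at h2
      unfold rectDepthRing
      rw [hd, hd₀]
      have h1' : e + d + δ (PrimeSpectrum.comap (algebraMap P B) q) = c := by exact_mod_cast h1
      have h2' : e₀ + d₀ + δ (PrimeSpectrum.comap (algebraMap P B) q₀) = c := by exact_mod_cast h2
      exact_mod_cast (by omega : d + δ (PrimeSpectrum.comap (algebraMap P B) q) =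
        d₀ + δ (PrimeSpectrum.comap (algebraMap P B) q₀))

end Main

end

end Groth.Agent.Lib.Helper73
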