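import Mathlib
import Groth.Agent.Lib.Helper73.RectDepth.RegRingRect
import Groth.Agent.Lib.Helper73.DimFormula.Jacobson
import Groth.Agent.Lib.Helper73.DimFormula.LocDimFiber
import Groth.Agent.Lib.Helper73.DimFormula.OpenFT
import Groth.Agent.Lib.Helper42.AffDepth2
import Groth.Agent.Lib.Helper67.CMCat2
import Groth.Agent.Lib.Helper77.RegularLocalization
import Groth.Agent.Lib.Helper56.CMRing
import Groth.Agent.Lib.Lead.PullbackAff4
import Groth.Agent.Lib.Lead.QCohAff5

/-!
# Rectified depth over a regular Jacobson base: lower semicontinuity (helper73)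
-/

set_option autoImplicit false
set_option linter.style.haveILetI false
universe u

open AlgebraicGeometry CategoryTheory TopologicalSpace Topology LocCoh

namespace Groth.Agent.Lib.Helper73

/-- A regular local ring is universally catenary. -/
theorem isUniversallyCatenary_of_isRegularLocalRing (R : Type u) [CommRing R]
    [IsRegularLocalRing R] : CAlg.IsUniversallyCatenary R := by
  haveI : IsRegularRing R :=
    Groth.Agent.Lib.Helper77.RegularLocalization.isRegularRing_of_isRegularLocalRing R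
  haveI : LocCoh.IsCohenMacaulayRing R :=
    Groth.Agent.Lib.Helper56.isCohenMacaulayRing_of_isRegularRing R
  exact Groth.Agent.Lib.Helper67.CMCat.isUniversallyCatenary_of_isCohenMacaulayRing R

/-- The ring of sections over an affine open of a locally Noetherian scheme with regular local
rings is a regular ring. -/
theorem isRegularRing_sections {S : Scheme.{u}} [IsLocallyNoetherian S]
    (hreg : ∀ s : S, IsRegularLocalRing (S.presheaf.stalk s)) {V : S.Opens}
    (hV : IsAffineOpen V) : IsRegularRing Γ(S, V) := by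
  haveI : IsNoetherianRing Γ(S, V) := IsLocallyNoetherian.component_noetherian ⟨V, hV⟩
  rw [isRegularRing_iff]
  intro p hp
  have hxV : hV.fromSpec ⟨p, hp⟩ ∈ V := Groth.Agent.Lib.Lead.QCohAff.fromSpec_mem hV ⟨p, hp⟩
  have hp' : hV.primeIdealOf ⟨hV.fromSpec ⟨p, hp⟩, hxV⟩ = ⟨p, hp⟩ :=
    Groth.Agent.Lib.Lead.QCohAff.primeIdealOf_fromSpec hV _ hxV
  letI : Algebra Γ(S, V) (S.presheaf.stalk (hV.fromSpec ⟨p, hp⟩)) :=
    TopCat.Presheaf.algebra_section_stalk S.presheaf (U := V) ⟨hV.fromSpec ⟨p, hp⟩, hxV⟩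
  have h1 : IsLocalization.AtPrime (S.presheaf.stalk (hV.fromSpec ⟨p, hp⟩))
      (hV.primeIdealOf ⟨hV.fromSpec ⟨p, hp⟩, hxV⟩).asIdeal :=
    hV.isLocalization_stalk ⟨hV.fromSpec ⟨p, hp⟩, hxV⟩
  have key : ∀ P' : PrimeSpectrum Γ(S, V), P' = ⟨p, hp⟩ →
      IsLocalization.AtPrime (S.presheaf.stalk (hV.fromSpec ⟨p, hp⟩)) P'.asIdeal →
      IsLocalization.AtPrime (S.presheaf.stalk (hV.fromSpec ⟨p, hp⟩)) p := by
    rintro _ rfl h
    exact h
  haveI : IsLocalization.AtPrime (S.presheaf.stalk (hV.fromSpec ⟨p, hp⟩)) p := key _ hp' h1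
  haveI := hreg (hV.fromSpec ⟨p, hp⟩)
  exact IsRegularLocalRing.of_ringEquiv (IsLocalization.algEquiv p.primeCompl
    (S.presheaf.stalk (hV.fromSpec ⟨p, hp⟩)) (Localization.AtPrime p)).toRingEquiv

section Main

variable {X S : Scheme.{u}} [IsLocallyNoetherian S] [JacobsonSpace S]
  (hreg : ∀ s : S, IsRegularLocalRing ↑(S.presheaf.stalk s))
  (h3 : ∀ S' ∈ irreducibleComponents (S : Type u), ∀ s ∈ S', IsClosed ({s} : Set S) →
    topologicalKrullDim (↥S' : Type u) = topologicalKrullDim ↥{t : S | t ∈ S' ∧ t ⤳ s})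
  (g : X ⟶ S) [LocallyOfFiniteType g] (F : X.Modules) (hF : Coh.IsCoh F)

/-- The rectified depth, with `dim cl{x}` replaced by the relative dimension function. -/
noncomputable def rectDepthSch (g : X ⟶ S) (F : X.Modules) (x : X) : ℕ∞ :=
  depth (X.presheaf.stalk x) (F.presheaf.stalk x) + (relDim g x : ℕ∞)

include hreg h3 in
theorem rectDepth_eq_rectDepthSch (x : X) :
    ((depth ↑(X.presheaf.stalk x) ↑(F.presheaf.stalk x) : ℕ∞) : WithBot ℕ∞) +
        topologicalKrullDim ↥(closure ({x} : Set X)) = ((rectDepthSch g F x : ℕ∞) : WithBot ℕ∞) := by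
  have h2 : ∀ s : S, CAlg.IsUniversallyCatenary (S.presheaf.stalk s) := fun s => by
    haveI := hreg s
    exact isUniversallyCatenary_of_isRegularLocalRing _
  have hδ := isDimFun_relDim h2 h3 g
  rw [hδ.topologicalKrullDim_closure_singleton x]
  unfold rectDepthSch
  push_cast
  rfl

include hreg h3 hF in
/-- Lower semicontinuity of the rectified depth, and its constancy along nearby
specializations. -/
theorem exists_open_rectDepthSch (x₀ : X) :
    ∃ W : Set X, IsOpen W ∧ x₀ ∈ W ∧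
      (∀ x ∈ W, rectDepthSch g F x₀ ≤ rectDepthSch g F x) ∧
      (∀ x ∈ W, x₀ ⤳ x → rectDepthSch g F x = rectDepthSch g F x₀) := by
  haveI : F.IsQuasicoherent := hF.1
  haveI : IsLocallyNoetherian X := LocallyOfFiniteType.isLocallyNoetherian g
  have h2 : ∀ s : S, CAlg.IsUniversallyCatenary (S.presheaf.stalk s) := fun s => by
    haveI := hreg s
    exact isUniversallyCatenary_of_isRegularLocalRing _
  have hδX := isDimFun_relDim h2 h3 g
  obtain ⟨V, U, hV, hU, hxU, hUV⟩ := Groth.Agent.Lib.Lead.PullbackAff.exists_affines g x₀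
  letI algRB : Algebra Γ(S, V) Γ(X, U) := (g.appLE V U hUV).hom.toAlgebra
  haveI : Algebra.FiniteType Γ(S, V) Γ(X, U) := g.finiteType_appLE hV hU hUV
  haveI : IsRegularRing Γ(S, V) := isRegularRing_sections hreg hV
  obtain ⟨n, ρ, hρ⟩ := Algebra.FiniteType.iff_quotient_mvPolynomial''.mp
    (inferInstance : Algebra.FiniteType Γ(S, V) Γ(X, U))
  haveI : IsRegularRing (MvPolynomial (Fin n) Γ(S, V)) := inferInstance
  letI algPB : Algebra (MvPolynomial (Fin n) Γ(S, V)) Γ(X, U) := ρ.toRingHom.toAlgebra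
  have hρ' : Function.Surjective (algebraMap (MvPolynomial (Fin n) Γ(S, V)) Γ(X, U)) := hρ
  letI modP : Module (MvPolynomial (Fin n) Γ(S, V)) Γ(F, U) :=
    Module.compHom Γ(F, U) ρ.toRingHom
  haveI : IsScalarTower (MvPolynomial (Fin n) Γ(S, V)) Γ(X, U) Γ(F, U) :=
    IsScalarTower.of_algebraMap_smul (fun _ _ => rfl)
  haveI : Module.Finite Γ(X, U) Γ(F, U) :=
    Groth.Agent.Lib.Helper64.CohAffine.finite_sections F hF.2 hU
  -- the affine space over `V` as a scheme over `S`
  let πZ : Spec (CommRingCat.of (MvPolynomial (Fin n) Γ(S, V))) ⟶ S :=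
    Spec.map (CommRingCat.ofHom (algebraMap Γ(S, V) (MvPolynomial (Fin n) Γ(S, V)))) ≫ hV.fromSpec
  haveI : LocallyOfFiniteType (Spec.map (CommRingCat.ofHom
      (algebraMap Γ(S, V) (MvPolynomial (Fin n) Γ(S, V))))) := by
    rw [HasRingHomProperty.Spec_iff (P := @LocallyOfFiniteType)]
    exact (inferInstance : Algebra.FiniteType Γ(S, V) (MvPolynomial (Fin n) Γ(S, V))).out |>
      fun h => (RingHom.finiteType_algebraMap (A := Γ(S, V))
        (B := MvPolynomial (Fin n) Γ(S, V))).mpr ⟨h⟩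
  haveI : LocallyOfFiniteType πZ := inferInstance
  have hδZ := isDimFun_relDim h2 h3 πZ
  let δZ : PrimeSpectrum (MvPolynomial (Fin n) Γ(S, V)) → ℕ := fun p => relDim πZ p
  have hδZ' : IsDimFun δZ := hδZ
  -- comparison of the two dimension functions on `Spec Γ(X, U)`
  have hcmp : ∀ q : PrimeSpectrum Γ(X, U), relDim g (hU.fromSpec q) =
      δZ (PrimeSpectrum.comap (algebraMap (MvPolynomial (Fin n) Γ(S, V)) Γ(X, U)) q) := by
    intro q
    have ha : IsDimFun (fun t : PrimeSpectrum Γ(X, U) => relDim g (hU.fromSpec t)) :=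
      hδX.comp_isOpenEmbedding (fun t : PrimeSpectrum Γ(X, U) => hU.fromSpec t)
        hU.fromSpec.isOpenEmbedding
    have hb : IsDimFun (fun t : PrimeSpectrum Γ(X, U) =>
        δZ (PrimeSpectrum.comap (algebraMap (MvPolynomial (Fin n) Γ(S, V)) Γ(X, U)) t)) :=
      hδZ'.comp_isClosedEmbedding _
        (PrimeSpectrum.isClosedEmbedding_comap_of_surjective _ _ hρ')
    have h1 := ha.topologicalKrullDim_closure_singleton q
    have h2 := hb.topologicalKrullDim_closure_singleton q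
    rw [h1] at h2
    have h3 : ((relDim g (hU.fromSpec q) : ℕ) : ℕ∞) = _ := WithBot.coe_injective h2
    exact_mod_cast h3
  -- the rectified depth on the chart
  have hkey : ∀ q : PrimeSpectrum Γ(X, U), rectDepthSch g F (hU.fromSpec q) =
      rectDepthRing Γ(X, U) Γ(F, U) δZ q := by
    intro q
    have hqU : hU.fromSpec q ∈ U := Groth.Agent.Lib.Lead.QCohAff.fromSpec_mem hU q
    have hq' : hU.primeIdealOf ⟨hU.fromSpec q, hqU⟩ = q :=
      Groth.Agent.Lib.Lead.QCohAff.primeIdealOf_fromSpec hU q hqU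
    unfold rectDepthSch rectDepthRing
    rw [hcmp q, Groth.Agent.Lib.Helper42.AffDepth2.depth_stalk_eq hU F hF (hU.fromSpec q) hqU, hq']
  obtain ⟨W₀, hW₀, hq₀W₀, hle, heq⟩ := exists_open_rectDepthRing (M := Γ(F, U)) hρ' hδZ'
    (hU.primeIdealOf ⟨x₀, hxU⟩)
  have hx₀ : hU.fromSpec (hU.primeIdealOf ⟨x₀, hxU⟩) = x₀ := hU.fromSpec_primeIdealOf ⟨x₀, hxU⟩
  refine ⟨hU.fromSpec '' W₀, hU.fromSpec.isOpenEmbedding.isOpenMap _ hW₀,
    ⟨_, hq₀W₀, hx₀⟩, ?_, ?_⟩
  · rintro _ ⟨q, hq, rfl⟩
    rw [hkey q, ← hx₀, hkey]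
    exact hle q hq
  · rintro _ ⟨q, hq, rfl⟩ hsp
    rw [hkey q, ← hx₀, hkey]
    refine heq q hq ?_
    rw [← hx₀] at hsp
    exact (PrimeSpectrum.le_iff_specializes _ _).mpr
      (hU.fromSpec.isOpenEmbedding.isInducing.specializes_iff.mp hsp)

end Main

end Groth.Agent.Lib.Helper73
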