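import Mathlib
import Groth.Agent.Lib.Helper77.RegularAB
import Groth.Agent.Lib.Helper76.RegularLocal
import Groth.Agent.Lib.Helper64.FinTypeStalk

/-!
# Rectified depth on regular biequidimensional schemes (helper73)
-/

set_option autoImplicit false
universe u
open CategoryTheory AlgebraicGeometry TopologicalSpace Topology

namespace Groth.Agent.Lib.Helper73

/-- The dimension of the local ring at `x` is the dimension of the space of generizations. -/
theorem ringKrullDim_stalk_eq_topologicalKrullDim_generizations (X : Scheme.{u}) (x : X) :
    ringKrullDim (X.presheaf.stalk x) = topologicalKrullDim ↥{t : X | t ⤳ x} := by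
  rw [← PrimeSpectrum.topologicalKrullDim_eq_ringKrullDim]
  have hemb : IsEmbedding (X.fromSpecStalk x) := (X.fromSpecStalk x).isEmbedding
  have h1 := hemb.toHomeomorph.isHomeomorph.topologicalKrullDim_eq
  have h2 := (Homeomorph.setCongr (Scheme.range_fromSpecStalk (X := X) (x := x))).isHomeomorph.topologicalKrullDim_eq
  exact h1.trans h2

/-- If the local ring at `x` is a domain, the generizations of `x` all lie in one irreducible
component. -/
theorem exists_irreducibleComponent_generizations (X : Scheme.{u}) (x : X)
    [IsDomain (X.presheaf.stalk x)] :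
    ∃ T ∈ irreducibleComponents (X : Type u), {t : X | t ⤳ x} ⊆ T := by
  have hirr : IsIrreducible {t : X | t ⤳ x} := by
    rw [← Scheme.range_fromSpecStalk, ← Set.image_univ]
    haveI : IrreducibleSpace (PrimeSpectrum (X.presheaf.stalk x)) :=
      PrimeSpectrum.irreducibleSpace
    exact (IrreducibleSpace.isIrreducible_univ _).image _
      (X.fromSpecStalk x).continuous.continuousOn
  obtain ⟨T, hT, hsub, hmax⟩ := exists_preirreducible _ hirr.isPreirreducible
  refine ⟨T, ⟨⟨?_, hT⟩, fun T' hT' hle => hmax T' hT'.2 hle ▸ le_rfl⟩, hsub⟩
  exact hirr.nonempty.mono hsub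

end Groth.Agent.Lib.Helper73
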