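import Mathlib
import Groth.Agent.Lib.Lead.QCohAff5
import Groth.Agent.Lib.Helper64.CohAffine
import Groth.Agent.Lib.Helper64.FinTypeStalk
import Groth.Agent.Lib.Helper67.IterLoc2
import Groth.Agent.Lib.Helper73.SkMod.SuppBC
import Groth.Agent.Lib.Helper73.DimFormula.Codim

/-!
# The support dimension of the stalk of a coherent module is the dimension of the space of
generizations in the support (helper73)
-/

set_option autoImplicit false
set_option linter.style.haveILetI false
universe u
open CategoryTheory AlgebraicGeometry TopologicalSpace Topology TensorProduct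
open Groth.Agent.Lib.Lead.QCohAff

namespace Groth.Agent.Lib.Helper73

noncomputable section

variable {X : Scheme.{u}} (F : X.Modules) [F.IsQuasicoherent] {U : X.Opens}

/-- On an affine open, the support of a quasi-coherent module is the support of its module of
sections. -/
theorem mem_support_iff_chart (hU : IsAffineOpen U) (t : X) (ht : t ∈ U) :
    t ∈ CohB1.support F ↔ hU.primeIdealOf ⟨t, ht⟩ ∈ Module.support Γ(X, U) Γ(F, U) := by
  haveI := isLocalizedModule_germL F hU t ht
  have e := IsLocalizedModule.iso (hU.primeIdealOf ⟨t, ht⟩).asIdeal.primeCompl (germL F U t ht)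
  rw [Module.mem_support_iff]
  show ¬ Subsingleton (F.presheaf.stalk t) ↔ _
  rw [not_subsingleton_iff_nontrivial]
  constructor
  · intro h
    haveI : Nontrivial (StalkOver F U t ht) := h
    exact e.toEquiv.nontrivial
  · intro h
    have : Nontrivial (StalkOver F U t ht) := e.symm.toEquiv.nontrivial
    exact this

/-- The support dimension of the stalk, computed in an affine chart. -/
theorem supportDim_stalk_eq_chart [IsLocallyNoetherian X]
    (hft : SheafOfModules.IsFiniteType (R := X.ringCatSheaf) F)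
    (hU : IsAffineOpen U) (x : X) (hx : x ∈ U) :
    Module.supportDim (X.presheaf.stalk x) (F.presheaf.stalk x) =
      ringKrullDim (Localization.AtPrime (hU.primeIdealOf ⟨x, hx⟩).asIdeal ⧸
        (Module.annihilator Γ(X, U) Γ(F, U)).map
          (algebraMap Γ(X, U) (Localization.AtPrime (hU.primeIdealOf ⟨x, hx⟩).asIdeal))) := by
  haveI : IsNoetherianRing Γ(X, U) := IsLocallyNoetherian.component_noetherian ⟨U, hU⟩
  haveI : Module.Finite Γ(X, U) Γ(F, U) :=
    Groth.Agent.Lib.Helper64.CohAffine.finite_sections F hft hU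
  letI : Algebra Γ(X, U) (X.presheaf.stalk x) :=
    TopCat.Presheaf.algebra_section_stalk X.presheaf (U := U) ⟨x, hx⟩
  haveI : IsLocalization.AtPrime (X.presheaf.stalk x) (hU.primeIdealOf ⟨x, hx⟩).asIdeal :=
    hU.isLocalization_stalk ⟨x, hx⟩
  letI : Module (X.presheaf.stalk x) (StalkOver F U x hx) :=
    inferInstanceAs (Module (X.presheaf.stalk x) (F.presheaf.stalk x))
  haveI : IsScalarTower Γ(X, U) (X.presheaf.stalk x) (StalkOver F U x hx) :=
    IsScalarTower.of_algebraMap_smul (fun r t => rfl)
  haveI : Module.Finite (X.presheaf.stalk x) (StalkOver F U x hx) :=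
    Groth.Agent.Lib.Helper64.FinTypeStalk.finite_stalk F hft x
  haveI := isLocalizedModule_germL F hU x hx
  haveI : IsLocalizedModule (hU.primeIdealOf ⟨x, hx⟩).asIdeal.primeCompl
      (TensorProduct.mk Γ(X, U) (Localization.AtPrime (hU.primeIdealOf ⟨x, hx⟩).asIdeal)
        Γ(F, U) 1) :=
    (isLocalizedModule_iff_isBaseChange (hU.primeIdealOf ⟨x, hx⟩).asIdeal.primeCompl
      (Localization.AtPrime (hU.primeIdealOf ⟨x, hx⟩).asIdeal) _).mpr
      (TensorProduct.isBaseChange Γ(X, U) Γ(F, U)
        (Localization.AtPrime (hU.primeIdealOf ⟨x, hx⟩).asIdeal))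
  have h := (Groth.Agent.Lib.Helper67.depth_supportDim_eq_of_isLocalizedModule
    (hU.primeIdealOf ⟨x, hx⟩).asIdeal
    (X.presheaf.stalk x) (Localization.AtPrime (hU.primeIdealOf ⟨x, hx⟩).asIdeal)
    (N := StalkOver F U x hx) (germL F U x hx)
    (TensorProduct.mk Γ(X, U) (Localization.AtPrime (hU.primeIdealOf ⟨x, hx⟩).asIdeal)
      Γ(F, U) 1)).2
  rw [← supportDim_baseChange_eq_quotient]
  exact h

set_option backward.isDefEq.respectTransparency.types false in
/-- The space of generizations of `x` inside the support, computed in an affine chart. -/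
theorem topologicalKrullDim_generizations_support_eq_chart [IsLocallyNoetherian X]
    (hft : SheafOfModules.IsFiniteType (R := X.ringCatSheaf) F)
    (hU : IsAffineOpen U) (x : X) (hx : x ∈ U) :
    topologicalKrullDim ↥{t : X | t ∈ CohB1.support F ∧ t ⤳ x} =
      ringKrullDim (Localization.AtPrime (hU.primeIdealOf ⟨x, hx⟩).asIdeal ⧸
        (Module.annihilator Γ(X, U) Γ(F, U)).map
          (algebraMap Γ(X, U) (Localization.AtPrime (hU.primeIdealOf ⟨x, hx⟩).asIdeal))) := by
  haveI : Module.Finite Γ(X, U) Γ(F, U) :=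
    Groth.Agent.Lib.Helper64.CohAffine.finite_sections F hft hU
  let p : PrimeSpectrum Γ(X, U) := hU.primeIdealOf ⟨x, hx⟩
  let J : Ideal Γ(X, U) := Module.annihilator Γ(X, U) Γ(F, U)
  let B := Localization.AtPrime p.asIdeal
  let JB : Ideal B := J.map (algebraMap Γ(X, U) B)
  let c1 : PrimeSpectrum (B ⧸ JB) → PrimeSpectrum B := PrimeSpectrum.comap (Ideal.Quotient.mk JB)
  let c2 : PrimeSpectrum B → PrimeSpectrum Γ(X, U) := PrimeSpectrum.comap (algebraMap Γ(X, U) B)
  let ψ : PrimeSpectrum (B ⧸ JB) → X := fun Q => hU.fromSpec (c2 (c1 Q))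
  have h1 : IsEmbedding c1 :=
    (PrimeSpectrum.isClosedEmbedding_comap_of_surjective (B ⧸ JB) (Ideal.Quotient.mk JB)
      Ideal.Quotient.mk_surjective).isEmbedding
  have h2 : IsEmbedding c2 := PrimeSpectrum.localization_comap_isEmbedding B p.asIdeal.primeCompl
  have h3 : IsEmbedding (fun q : PrimeSpectrum Γ(X, U) => hU.fromSpec q) :=
    hU.fromSpec.isOpenEmbedding.isEmbedding
  have hψ : IsEmbedding ψ := h3.comp (h2.comp h1)
  have hsupp : ∀ q : PrimeSpectrum Γ(X, U), q ∈ Module.support Γ(X, U) Γ(F, U) ↔ J ≤ q.asIdeal := by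
    intro q
    rw [Module.support_eq_zeroLocus, PrimeSpectrum.mem_zeroLocus]
    exact Iff.rfl
  have hrange : Set.range ψ = {t : X | t ∈ CohB1.support F ∧ t ⤳ x} := by
    ext t
    constructor
    · rintro ⟨Q, rfl⟩
      have hqU : hU.fromSpec (c2 (c1 Q)) ∈ U := fromSpec_mem hU _
      have hq : hU.primeIdealOf ⟨hU.fromSpec (c2 (c1 Q)), hqU⟩ = c2 (c1 Q) :=
        Groth.Agent.Lib.Lead.QCohAff.primeIdealOf_fromSpec hU _ hqU
      refine ⟨?_, ?_⟩
      · rw [mem_support_iff_chart F hU _ hqU, hq, hsupp]
        intro a ha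
        show algebraMap Γ(X, U) B a ∈ (c1 Q).asIdeal
        show Ideal.Quotient.mk JB (algebraMap Γ(X, U) B a) ∈ Q.asIdeal
        rw [Ideal.Quotient.eq_zero_iff_mem.mpr (Ideal.mem_map_of_mem _ ha)]
        exact zero_mem _
      · have hle : c2 (c1 Q) ≤ p := by
          have hr : c2 (c1 Q) ∈ Set.range c2 := ⟨_, rfl⟩
          rw [PrimeSpectrum.localization_comap_range B p.asIdeal.primeCompl] at hr
          intro a ha
          by_contra hcon
          exact Set.disjoint_left.mp hr hcon ha
        have hsp : c2 (c1 Q) ⤳ p := (PrimeSpectrum.le_iff_specializes _ _).mp hle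
        have := hsp.map hU.fromSpec.continuous
        rwa [hU.fromSpec_primeIdealOf ⟨x, hx⟩] at this
    · rintro ⟨htY, htx⟩
      have htU : t ∈ U := htx.mem_open U.isOpen hx
      have hqle : (hU.primeIdealOf ⟨t, htU⟩ : PrimeSpectrum Γ(X, U)) ≤ p :=
        primeIdealOf_le_of_specializes hU t x htU hx htx
      have hJq : J ≤ (hU.primeIdealOf ⟨t, htU⟩).asIdeal := by
        rw [← hsupp, ← mem_support_iff_chart F hU t htU]
        exact htY
      obtain ⟨Q', hQ'⟩ : (hU.primeIdealOf ⟨t, htU⟩ : PrimeSpectrum Γ(X, U)) ∈ Set.range c2 := by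
        rw [PrimeSpectrum.localization_comap_range B p.asIdeal.primeCompl]
        rw [Set.mem_setOf_eq, Set.disjoint_left]
        intro a ha ha'
        exact ha (hqle ha')
      have hJB : JB ≤ Q'.asIdeal := by
        rw [Ideal.map_le_iff_le_comap]
        intro a ha
        have : a ∈ (c2 Q').asIdeal := by
          rw [hQ']
          exact hJq ha
        exact this
      obtain ⟨Q, hQ⟩ : Q' ∈ Set.range c1 := by
        rw [range_comap_of_surjective _ _ Ideal.Quotient.mk_surjective, Ideal.mk_ker]
        exact hJB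
      refine ⟨Q, ?_⟩
      show hU.fromSpec (c2 (c1 Q)) = t
      rw [hQ, hQ']
      exact hU.fromSpec_primeIdealOf ⟨t, htU⟩
  have e1 := hψ.toHomeomorph.isHomeomorph.topologicalKrullDim_eq
  have e2 := (Homeomorph.setCongr hrange).isHomeomorph.topologicalKrullDim_eq
  rw [← e2, ← e1, PrimeSpectrum.topologicalKrullDim_eq_ringKrullDim]

/-- The support dimension of the stalk of a coherent module is the dimension of the space of
generizations of the point inside the support. -/
theorem supportDim_stalk_eq_topologicalKrullDim_generizations [IsLocallyNoetherian X]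
    (hft : SheafOfModules.IsFiniteType (R := X.ringCatSheaf) F) (x : X) :
    Module.supportDim (X.presheaf.stalk x) (F.presheaf.stalk x) =
      topologicalKrullDim ↥{t : X | t ∈ CohB1.support F ∧ t ⤳ x} := by
  obtain ⟨U, hU, hxU, -⟩ :=
    exists_isAffineOpen_mem_and_subset (X := X) (x := x) (U := ⊤) trivial
  rw [supportDim_stalk_eq_chart F hft hU x hxU,
    topologicalKrullDim_generizations_support_eq_chart F hft hU x hxU]

end

end Groth.Agent.Lib.Helper73
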